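import Mathlib

/-! Congruences between sums of two powers of two modulo a large divisor of `2 ^ n - 1`. -/

set_option autoImplicit false

namespace CfsgLib.Suz2S

theorem two_pow_add_inj {a b c e : ℕ} (h : 2 ^ a + 2 ^ b = 2 ^ c + 2 ^ e) :
    (a = c ∧ b = e) ∨ (a = e ∧ b = c) := by
  have key : ∀ {a b c e : ℕ}, a ≤ b → c ≤ e → 2 ^ a + 2 ^ b = 2 ^ c + 2 ^ e → ¬ b < e := by
    intro a b c e hab _ h hlt
    have h1 : 2 ^ a ≤ 2 ^ b := Nat.pow_le_pow_right (by norm_num) hab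
    have h2 : 2 ^ (b + 1) ≤ 2 ^ e := Nat.pow_le_pow_right (by norm_num) hlt
    have h3 : 0 < 2 ^ c := by positivity
    rw [pow_succ] at h2
    omega
  have main : ∀ {a b c e : ℕ}, a ≤ b → c ≤ e → 2 ^ a + 2 ^ b = 2 ^ c + 2 ^ e → a = c ∧ b = e := by
    intro a b c e hab hce h
    have h1 : b = e := le_antisymm (not_lt.1 (key hce hab h.symm)) (not_lt.1 (key hab hce h))
    subst h1
    exact ⟨Nat.pow_right_injective le_rfl (by simpa using h), rfl⟩
  rcases le_total a b with h1 | h1 <;> rcases le_total c e with h2 | h2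
  · exact Or.inl (main h1 h2 h)
  · exact Or.inr (main h1 h2 (by omega))
  · exact Or.inr (main h1 h2 (by omega)).symm
  · exact Or.inl (main h1 h2 (by omega)).symm

theorem exists_rot {n : ℕ} (hn : 0 < n) (a b c e : ℕ) :
    ∃ r, ∀ x ∈ ({a, b, c, e} : Finset ℕ), (x + r) % n + (n + 3) / 4 ≤ n := by
  classical
  let bad : ℕ → Finset ℕ := fun x =>
    (Finset.range n).filter (fun r => n < (x + r) % n + (n + 3) / 4)
  have hb : ∀ x, (bad x).card ≤ (n + 3) / 4 - 1 := by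
    intro x
    have : (bad x).card ≤ (Finset.Ico (n + 1 - (n + 3) / 4) n).card := by
      refine Finset.card_le_card_of_injOn (fun r => (x + r) % n) (fun r hr => ?_)
        (fun r hr s hs e => ?_)
      · have h1 := (Finset.mem_filter.1 hr).2
        have h2 := Nat.mod_lt (x + r) hn
        simp only [Finset.coe_Ico, Set.mem_Ico]
        omega
      · have h1 := Finset.mem_range.1 (Finset.mem_filter.1 hr).1
        have h2 := Finset.mem_range.1 (Finset.mem_filter.1 hs).1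
        exact Nat.ModEq.eq_of_lt_of_lt (Nat.ModEq.add_left_cancel' x e) h1 h2
    rw [Nat.card_Ico] at this
    omega
  have hc : (bad a ∪ bad b ∪ bad c ∪ bad e).card < (Finset.range n).card := by
    have h1 := Finset.card_union_le (bad a ∪ bad b ∪ bad c) (bad e)
    have h2 := Finset.card_union_le (bad a ∪ bad b) (bad c)
    have h3 := Finset.card_union_le (bad a) (bad b)
    have := hb a; have := hb b; have := hb c; have := hb e
    rw [Finset.card_range]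
    omega
  obtain ⟨r, hr, hr'⟩ := Finset.exists_mem_notMem_of_card_lt_card hc
  refine ⟨r, fun x hx => not_lt.1 fun hlt => hr' ?_⟩
  have hx' : r ∈ bad x := Finset.mem_filter.2 ⟨hr, hlt⟩
  simp only [Finset.mem_insert, Finset.mem_singleton] at hx
  simp only [Finset.mem_union]
  rcases hx with rfl | rfl | rfl | rfl <;> tauto

theorem pow_mod_modEq {n N : ℕ} (hN : N ∣ 2 ^ n - 1) (x : ℕ) : 2 ^ (x % n) ≡ 2 ^ x [MOD N] := by
  have h1 : 1 ≡ 2 ^ n [MOD N] := (Nat.modEq_iff_dvd' (Nat.one_le_two_pow)).2 hN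
  have h2 : 2 ^ (x % n) * 1 ^ (x / n) ≡ 2 ^ (x % n) * (2 ^ n) ^ (x / n) [MOD N] :=
    (h1.pow _).mul_left _
  rwa [one_pow, mul_one, ← pow_mul, ← pow_add, Nat.mod_add_div] at h2

theorem w4 {n N d : ℕ} (hn : 0 < n) (hd0 : 0 < d) (hN : N * d = 2 ^ n - 1)
    (hd : 2 * d ≤ 2 ^ ((n + 3) / 4)) {a b c e : ℕ} (ha : a < n) (hb : b < n) (hc : c < n)
    (he : e < n) (h : 2 ^ a + 2 ^ b ≡ 2 ^ c + 2 ^ e [MOD N]) :
    (a = c ∧ b = e) ∨ (a = e ∧ b = c) := by
  obtain ⟨r, hr⟩ := exists_rot hn a b c e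
  have hdvd : N ∣ 2 ^ n - 1 := ⟨d, hN.symm⟩
  have h1 : 2 ^ ((a + r) % n) + 2 ^ ((b + r) % n) ≡ 2 ^ ((c + r) % n) + 2 ^ ((e + r) % n) [MOD N] := by
    refine ((pow_mod_modEq hdvd _).add (pow_mod_modEq hdvd _)).trans
      (Nat.ModEq.trans ?_ ((pow_mod_modEq hdvd _).add (pow_mod_modEq hdvd _)).symm)
    simpa only [pow_add, add_mul] using h.mul_right (2 ^ r)
  have hM : ∀ x ∈ ({a, b, c, e} : Finset ℕ),
      1 ≤ 2 ^ ((x + r) % n) ∧ 2 ^ ((x + r) % n) ≤ 2 ^ (n - (n + 3) / 4) := fun x hx =>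
    ⟨Nat.one_le_two_pow, Nat.pow_le_pow_right (by norm_num) (by have := hr x hx; omega)⟩
  have hbd : 2 * 2 ^ (n - (n + 3) / 4) < N + 2 := by
    by_contra hcon
    have h2 : (N + 2) * d ≤ 2 * 2 ^ (n - (n + 3) / 4) * d := Nat.mul_le_mul_right _ (not_lt.1 hcon)
    have h3 : 2 * d * 2 ^ (n - (n + 3) / 4) ≤ 2 ^ ((n + 3) / 4) * 2 ^ (n - (n + 3) / 4) :=
      Nat.mul_le_mul_right _ hd
    rw [← pow_add, Nat.add_sub_cancel' (by omega)] at h3
    have h4 : 1 ≤ 2 ^ n := Nat.one_le_two_pow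
    have h5 : 2 * 2 ^ (n - (n + 3) / 4) * d = 2 * d * 2 ^ (n - (n + 3) / 4) := by ring
    rw [add_mul, hN, h5] at h2
    omega
  obtain ⟨a1, a2⟩ := hM a (by simp)
  obtain ⟨b1, b2⟩ := hM b (by simp)
  obtain ⟨c1, c2⟩ := hM c (by simp)
  obtain ⟨e1, e2⟩ := hM e (by simp)
  have aux : ∀ x y : ℕ, x ≡ y [MOD N] → x < y + N → y < x + N → x = y := fun x y e h1 h2 =>
    e.eq_of_abs_lt (by rw [abs_lt]; constructor <;> omega)
  have h6 := aux _ _ h1 (by omega) (by omega)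
  have can : ∀ {x y : ℕ}, x < n → y < n → (x + r) % n = (y + r) % n → x = y := fun hx hy e =>
    Nat.ModEq.eq_of_lt_of_lt (Nat.ModEq.add_right_cancel' r e) hx hy
  rcases two_pow_add_inj h6 with ⟨h7, h8⟩ | ⟨h7, h8⟩
  · exact Or.inl ⟨can ha hc h7, can hb he h8⟩
  · exact Or.inr ⟨can ha he h7, can hb hc h8⟩

theorem small_cases : ∀ n < 21, ∀ d < 21, 2 ≤ n → d ∣ n → d ∣ 2 ^ n - 1 →
    2 * d ≤ 2 ^ ((n + 3) / 4) ∨ (n = 6 ∧ d = 3) := by
  intro n hn d hd
  interval_cases n <;> interval_cases d <;> decide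

theorem large_case {n : ℕ} (hn : 21 ≤ n) : 2 * n ≤ 2 ^ ((n + 3) / 4) := by
  have key : ∀ t, 6 ≤ t → 8 * t ≤ 2 ^ t := by
    intro t ht
    induction t, ht using Nat.le_induction with
    | base => norm_num
    | succ t ht ih => rw [pow_succ]; omega
  have := key ((n + 3) / 4) (by omega)
  omega

/-- the congruences that are needed -/
structure NT (n N : ℕ) : Prop where
  two_le : 2 ≤ n
  dvd : N ∣ 2 ^ n - 1
  nt1 : ∀ a < n, ∀ b < n, 2 ^ a + 2 ^ b ≡ 1 [MOD N] → a = b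
  nt2 : ∀ g < n, ∀ j < n, ∀ j' < n, Nat.Coprime (2 ^ j - 1) N →
    2 ^ g + 2 ^ j' ≡ 1 + 2 ^ (g + j) [MOD N] → g = 0 ∧ j = j'

theorem nt_six : NT 6 21 := ⟨by norm_num, by norm_num, by decide +kernel, by
  intro g hg j hj j' hj'
  interval_cases g <;> interval_cases j <;> interval_cases j' <;> decide⟩

theorem nt_of {n N d : ℕ} (hn : 2 ≤ n) (hN : N * d = 2 ^ n - 1) (hd : d ∣ n) : NT n N := by
  have hdn : d ≤ n := Nat.le_of_dvd (by omega) hd
  have hd0 : 0 < d := Nat.pos_of_dvd_of_pos hd (by omega)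
  have hdvd : N ∣ 2 ^ n - 1 := ⟨d, hN.symm⟩
  have hcase : 2 * d ≤ 2 ^ ((n + 3) / 4) ∨ (n = 6 ∧ d = 3) := by
    by_cases h : n < 21
    · exact small_cases n h d (by omega) hn hd (Dvd.intro_left N hN)
    · exact Or.inl (le_trans (by omega) (large_case (not_lt.1 h)))
  rcases hcase with h | ⟨rfl, rfl⟩
  swap
  · obtain rfl : N = 21 := by omega
    exact nt_six
  have W := fun {a b c e : ℕ} => @w4 n N d (by omega) hd0 hN h a b c e
  have h1 : 1 ≡ 2 ^ (n - 1) + 2 ^ (n - 1) [MOD N] := by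
    rw [← two_mul, ← pow_succ', Nat.sub_add_cancel (by omega)]
    exact (Nat.modEq_iff_dvd' (Nat.one_le_two_pow)).2 hdvd
  have nt1 : ∀ a < n, ∀ b < n, 2 ^ a + 2 ^ b ≡ 1 [MOD N] → a = b := fun a ha b hb e => by
    have := W ha hb (by omega) (by omega) (e.trans h1)
    omega
  refine ⟨hn, hdvd, nt1, fun g hg j hj j' hj' hco e => ?_⟩
  have e' : 2 ^ g + 2 ^ j' ≡ 2 ^ 0 + 2 ^ ((g + j) % n) [MOD N] :=
    e.trans ((pow_mod_modEq hdvd _).symm.add_left _)
  rcases W hg hj' (by omega) (Nat.mod_lt _ (by omega)) e' with ⟨h2, h3⟩ | ⟨h2, -⟩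
  · subst h2
    rw [zero_add, Nat.mod_eq_of_lt hj] at h3
    exact ⟨rfl, h3.symm⟩
  · exfalso
    have h4 : j = 0 := by
      by_cases h5 : g + j < n
      · rw [Nat.mod_eq_of_lt h5] at h2; omega
      · rw [Nat.mod_eq_sub_mod (not_lt.1 h5), Nat.mod_eq_of_lt (by omega)] at h2; omega
    subst h4
    have h6 : N = 1 := by simpa using hco
    have := nt1 0 (by omega) 1 (by omega) (h6 ▸ Nat.modEq_one)
    omega

end CfsgLib.Suz2S
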