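import Mathlib
import Cfsg.Agent.Lib.Suz2.Mon
import Cfsg.Agent.Lib.Suz2S.NT

/-! Weights of large order in a finite field of characteristic two. -/

set_option autoImplicit false

namespace CfsgLib.Suz2S

open CfsgLib.Suz2

theorem NT.nt0 {n N : ℕ} (h : NT n N) {g : ℕ} (hg : g < n) (e : 2 ^ g ≡ 1 [MOD N]) : g = 0 := by
  have h1 : 1 < n := h.two_le
  refine (h.nt2 g hg 1 h1 1 h1 (by simp) ?_).1
  have h2 : 2 ^ g + 2 ^ 1 ≡ 1 + 2 ^ 1 [MOD N] := e.add_right _
  have h3 : 1 + 2 ^ g * 2 ≡ 1 + 1 * 2 [MOD N] := (e.mul_right 2).add_left _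
  rw [pow_succ 2 g]
  exact h2.trans h3.symm

theorem NT.one_lt {n N : ℕ} (h : NT n N) : 1 < N := by
  have h1 : 1 < n := h.two_le
  have h2 : 2 ^ 1 ≤ 2 ^ n := Nat.pow_le_pow_right (by norm_num) h1.le
  have h3 : 0 < N := Nat.pos_of_dvd_of_pos h.dvd (by omega)
  by_contra h4
  obtain rfl : N = 1 := by omega
  have := h.nt1 0 (by omega) 1 h1 Nat.modEq_one
  omega

theorem NT.odd {n N : ℕ} (h : NT n N) : Odd N := by
  have h1 : 1 < n := h.two_le
  refine Odd.of_dvd_nat ?_ h.dvd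
  exact Nat.Even.sub_odd Nat.one_le_two_pow ((Nat.even_pow' (by omega)).2 even_two) odd_one

theorem NT.fin {n N : ℕ} (h : NT n N) {M : Type*} [Monoid M] {l : M} (hl : orderOf l = N) :
    IsOfFinOrder l := orderOf_pos_iff.1 (by rw [hl]; exact lt_trans one_pos h.one_lt)

theorem NT.card_ge {n N : ℕ} (h : NT n N) {K : Type*} [Field K] [Finite K] [CharP K 2] {l : K}
    (hl : orderOf l = N) : 2 ^ n ≤ Nat.card K := by
  have := Fintype.ofFinite K
  obtain ⟨m, -, hm⟩ := FiniteField.card K 2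
  have h1 : l ^ 2 ^ (m : ℕ) = l ^ 1 := by rw [← hm, FiniteField.pow_card, pow_one]
  rw [(h.fin hl).pow_eq_pow_iff_modEq, hl] at h1
  have h2 := h.nt0 (Nat.mod_lt m (lt_of_lt_of_le two_pos h.two_le)) ((pow_mod_modEq h.dvd m).trans h1)
  rw [Nat.card_eq_fintype_card, hm]
  exact Nat.pow_le_pow_right (by norm_num) (Nat.le_of_dvd m.2 (Nat.dvd_of_mod_eq_zero h2))

variable {F : Type*} [Field F] [Finite F] [CharP F 2]

theorem exists_frob {n : ℕ} (hF : Nat.card F = 2 ^ n) (σ : F ≃+* F) :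
    ∃ j < n, ∀ x, σ x = x ^ 2 ^ j := by
  have := Fintype.ofFinite F
  let _ : Algebra (ZMod 2) F := ZMod.algebra F 2
  let g : F ≃ₐ[ZMod 2] F := AlgEquiv.ofRingEquiv (f := σ) (fun x => by
    have := RingHom.ext_zmod ((σ : F →+* F).comp (algebraMap (ZMod 2) F)) (algebraMap (ZMod 2) F)
    exact DFunLike.congr_fun this x)
  obtain ⟨i, hi⟩ := FiniteField.exists_forall_apply_eq_pow (ZMod 2) 2 F g
  have hn : 0 < n := by
    by_contra h0
    obtain rfl : n = 0 := by omega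
    have := Finite.one_lt_card (α := F)
    omega
  refine ⟨i % n, Nat.mod_lt _ hn, fun x => ?_⟩
  have h1 : σ x = x ^ 2 ^ i := by
    have := hi x
    rw [Nat.card_zmod] at this
    exact this
  have h2 := FiniteField.pow_card_pow (i / n) (x ^ 2 ^ (i % n))
  rw [← Nat.card_eq_fintype_card, hF, ← pow_mul, ← pow_mul, ← pow_add, Nat.mod_add_div] at h2
  rw [h1, h2]

/-- the field has order `2 ^ n` and `N` is a large divisor of `2 ^ n - 1` -/
def FW (F : Type*) (N : ℕ) : Prop := ∃ n, Nat.card F = 2 ^ n ∧ NT n N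

variable {N : ℕ}

omit [Finite F] [CharP F 2] in
theorem ord_map {l : F} (σ : F ≃+* F) : orderOf (σ l) = orderOf l :=
  orderOf_injective (σ : F →* F) σ.injective l

omit [Finite F] [CharP F 2] in
theorem FW.ne_zero (h : FW F N) {l : F} (hl : orderOf l = N) : l ≠ 0 := by
  obtain ⟨n, -, h⟩ := h
  exact (h.fin hl).isUnit.ne_zero

omit [Finite F] [CharP F 2] in
theorem FW.ne_one (h : FW F N) {l : F} (hl : orderOf l = N) : l ≠ 1 := by
  obtain ⟨n, -, h⟩ := h
  rintro rfl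
  have := h.one_lt
  rw [orderOf_one] at hl
  omega

theorem FW.irr (h : FW F N) {l : F} (hl : orderOf l = N) (W : AddSubgroup F)
    (hW : ∀ w ∈ W, l * w ∈ W) {w : F} (hw : w ∈ W) (hw0 : w ≠ 0) (x : F) : x ∈ W := by
  obtain ⟨n, hF, h⟩ := h
  let R : Subring F :=
    { carrier := {t | ∀ w ∈ W, t * w ∈ W}
      mul_mem' := fun {s t} hs ht w hw => by rw [mul_assoc]; exact hs _ (ht w hw)
      one_mem' := fun w hw => by rwa [one_mul]
      add_mem' := fun {s t} hs ht w hw => by rw [add_mul]; exact W.add_mem (hs w hw) (ht w hw)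
      zero_mem' := fun w _ => by rw [zero_mul]; exact W.zero_mem
      neg_mem' := fun {s} hs w hw => by rw [neg_mul]; exact W.neg_mem (hs w hw) }
  let _ : Field R := (Finite.isField_of_domain R).toField
  have h1 : 2 ^ n ≤ Nat.card R := h.card_ge (l := (⟨l, hW⟩ : R))
    ((orderOf_injective (R.subtype : R →* F) Subtype.val_injective ⟨l, hW⟩).symm.trans hl)
  have h2 : R.toAddSubgroup = ⊤ := AddSubgroup.eq_top_of_le_card _ (hF.trans_le h1)
  have h3 : x / w ∈ R := (h2.ge (AddSubgroup.mem_top _) : x / w ∈ R.toAddSubgroup)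
  simpa [div_mul_cancel₀ _ hw0] using h3 w hw

theorem FW.ext (h : FW F N) {l : F} (hl : orderOf l = N) {α β : F ≃+* F} (e : α l = β l) :
    α = β := by
  obtain ⟨n, hF, h⟩ := h
  obtain ⟨g, hg, hγ⟩ := exists_frob hF (α.symm.trans β)
  have h1 := hγ (α l)
  rw [RingEquiv.trans_apply, RingEquiv.symm_apply_apply, ← e] at h1
  have h2 : α l ^ 2 ^ g = α l ^ 1 := by rw [pow_one, ← h1]
  rw [(h.fin ((ord_map α).trans hl)).pow_eq_pow_iff_modEq, ord_map, hl] at h2
  obtain rfl := h.nt0 hg h2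
  ext x
  simpa using (hγ (α x)).symm

theorem FW.alt (h : FW F N) {l : F} (hl : orderOf l = N) {α β σ : F ≃+* F} (e : α l * β l = σ l) :
    α = β := by
  obtain ⟨n, hF, h'⟩ := id h
  obtain ⟨a, ha, hα⟩ := exists_frob hF (σ.symm.trans α)
  obtain ⟨b, hb, hβ⟩ := exists_frob hF (σ.symm.trans β)
  have h1 := hα (σ l)
  have h2 := hβ (σ l)
  rw [RingEquiv.trans_apply, RingEquiv.symm_apply_apply] at h1 h2
  have h3 : σ l ^ (2 ^ a + 2 ^ b) = σ l ^ 1 := by rw [pow_add, ← h1, ← h2, e, pow_one]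
  rw [(h'.fin ((ord_map σ).trans hl)).pow_eq_pow_iff_modEq, ord_map, hl] at h3
  obtain rfl := h'.nt1 a ha b hb h3
  exact h.ext hl (h1.trans h2.symm)

theorem FW.mon (h : FW F N) {l z : F} (hl : orderOf l = N) (hz : orderOf z = N)
    (α β α' β' : F ≃+* F) (e : α l * β z = z) (e' : α' l * β' z = z) : α = α' ∧ β = β' := by
  obtain ⟨n, hF, h'⟩ := id h
  have hz0 := h.ne_zero hz
  obtain ⟨g, hg, hγ⟩ := exists_frob hF (α.symm.trans α')
  obtain ⟨j, hj, hβ⟩ := exists_frob hF β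
  obtain ⟨j', hj', hβ'⟩ := exists_frob hF β'
  have h1 := hγ (α l)
  rw [RingEquiv.trans_apply, RingEquiv.symm_apply_apply] at h1
  rw [hβ] at e
  rw [hβ', h1] at e'
  have h2 : (z ^ (2 ^ j - 1)) * α l = 1 := by
    refine mul_right_cancel₀ hz0 ?_
    rw [one_mul, mul_right_comm, ← pow_succ, Nat.sub_add_cancel Nat.one_le_two_pow, mul_comm, e]
  have h3 : orderOf (z ^ (2 ^ j - 1)) = N := by
    rw [← hl, ← ord_map α (l := l)]
    refine orderOf_eq_orderOf_iff.2 fun k => ?_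
    have h4 : (z ^ (2 ^ j - 1)) ^ k * α l ^ k = 1 := by rw [← mul_pow, h2, one_pow]
    exact ⟨fun e => by rwa [e, one_mul] at h4, fun e => by rwa [e, mul_one] at h4⟩
  have h4 : Nat.Coprime (2 ^ j - 1) N := by
    rw [(h'.fin hz).orderOf_pow, hz] at h3
    have h5 := Nat.div_mul_cancel (Nat.gcd_dvd_left N (2 ^ j - 1))
    rw [h3] at h5
    have h6 := h'.one_lt
    exact Nat.Coprime.symm (Nat.eq_of_mul_eq_mul_left (by omega) (h5.trans (mul_one N).symm))
  have h5 : z ^ (2 ^ g + 2 ^ j') = z ^ (1 + 2 ^ (g + j)) := by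
    have h6 := congrArg (· ^ 2 ^ g) e
    simp only [mul_pow] at h6
    rw [pow_add, ← h6, pow_add, pow_one, mul_right_comm, e', ← pow_mul, ← pow_add, add_comm j g]
  rw [(h'.fin hz).pow_eq_pow_iff_modEq, hz] at h5
  obtain ⟨rfl, rfl⟩ := h'.nt2 g hg j hj j' hj' h4 h5
  exact ⟨h.ext hl (by simpa using h1.symm), RingEquiv.ext fun x => by rw [hβ, hβ']⟩

/-- a biadditive map of weight `(l, z, z)` with a nontrivial zero vanishes -/
theorem FW.mon_zero (h : FW F N) {l z : F} (hl : orderOf l = N) (hz : orderOf z = N)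
    (B : F →+ F →+ F) (hB : ∀ x y, B (l * x) (z * y) = z * B x y) {u v : F} (hu : u ≠ 0)
    (hv : v ≠ 0) (h0 : B u v = 0) (x y : F) : B x y = 0 :=
  biadd_eq_zero B hB (h.mon hl hz) hu hv h0 x y

theorem FW.mon_zero' (h : FW F N) {l z : F} (hl : orderOf l = N) (hz : orderOf z = N)
    (B : F →+ F →+ F) (hB : ∀ x y, B (z * x) (l * y) = z * B x y) {u v : F} (hu : u ≠ 0)
    (hv : v ≠ 0) (h0 : B u v = 0) (x y : F) : B x y = 0 :=
  h.mon_zero hl hz B.flip (fun x y => hB y x) hv hu h0 y x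

/-- an alternating map of weight `(l, l, σ l)` vanishes -/
theorem FW.alt_zero (h : FW F N) {l z : F} (hl : orderOf l = N) (S : F →+ F)
    (hS : ∀ x, S (l * x) = z * S x) (hS0 : ∃ x, S x ≠ 0) (B : F →+ F →+ F)
    (hB : ∀ x y, B (l * x) (l * y) = z * B x y) (h0 : B 1 1 = 0) (x y : F) : B x y = 0 := by
  obtain ⟨σ, τ, hσ⟩ := exists_weight_of_ne_zero ((AddMonoidHom.mul : F →+ F →+ F).comp S)
    (l₁ := l) (l₂ := 1) (l₃ := z) (fun x y => by simp [hS, mul_assoc])
    (by obtain ⟨x, hx⟩ := hS0; exact ⟨x, 1, by simpa using hx⟩)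
  rw [map_one, mul_one] at hσ
  subst hσ
  refine biadd_eq_zero B hB (fun α β α' β' e e' => ?_) one_ne_zero one_ne_zero h0 x y
  obtain rfl := h.alt hl e
  obtain rfl := h.alt hl e'
  have : α = α' := h.ext hl (by
    have h3 : (α l - α' l) ^ 2 = 0 := by
      rw [CharTwo.sub_eq_add, CharTwo.add_sq, sq, sq, e, e', CharTwo.add_self_eq_zero]
    exact sub_eq_zero.1 (pow_eq_zero_iff two_ne_zero |>.1 h3))
  exact ⟨this, this⟩

theorem FW.id_false (h : FW F N) {l z : F} (hl : orderOf l = N) (hz : orderOf z = N)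
    (B : F →+ F →+ F) (hB : ∀ x y, B (l * x) (z * y) = z * B x y) {u : F} (hid : ∀ x, B u x = x) :
    False := by
  have hu : u ≠ 0 := by rintro rfl; simpa using hid 1
  have hz0 := h.ne_zero hz
  have h1 : l * u + u ≠ 0 := fun e => h.ne_one hl (mul_right_cancel₀ hu (by
    rw [one_mul]; exact CharTwo.add_eq_zero.1 e))
  have h2 : B (l * u + u) (z * 1) = 0 := by
    rw [map_add, AddMonoidHom.add_apply, hB, hid, hid, CharTwo.add_self_eq_zero]
  have := h.mon_zero hl hz B hB h1 (by simpa using hz0) h2 u 1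
  rw [hid] at this
  exact one_ne_zero this

/-- no faithful additive family of idempotents -/
theorem FW.no_idem (h : FW F N) {l z : F} (hl : orderOf l = N) (hz : orderOf z = N)
    (B : F →+ F →+ F) (hB : ∀ x y, B (l * x) (z * y) = z * B x y)
    (hid : ∀ u x, B u (B u x) = B u x) (hnd : ∃ x, B 1 x ≠ 0) : False := by
  obtain ⟨x, hx⟩ := hnd
  refine h.id_false hl hz B hB (u := 1) fun y => ?_
  by_contra hy
  refine hx (h.mon_zero hl hz B hB one_ne_zero (v := B 1 y + y)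
    (fun e => hy (CharTwo.add_eq_zero.1 e)) ?_ 1 x)
  rw [map_add, hid, CharTwo.add_self_eq_zero]

theorem FW.fix_zero (h : FW F N) {l l' z : F} (hl : orderOf l = N) (hl' : orderOf l' = N)
    (hz : orderOf z = N) (B η η' : F →+ F →+ F) (hη : ∀ x y, η (l * x) (z * y) = z * η x y)
    (hη' : ∀ x y, η' (l' * x) (z * y) = z * η' x y) (h1 : ∀ s t, η s (B s t) = B s t)
    (h2 : ∀ s t, η' t (B s t) = B s t) (x y : F) : B x y = 0 := by
  by_contra hw
  have hinj : Function.Injective (B x) := by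
    rw [injective_iff_map_eq_zero]
    intro y' hy'
    by_contra h0
    have h3 := h2 x (y + y')
    rw [map_add (B x), hy', add_zero, map_add, AddMonoidHom.add_apply, h2, add_eq_left] at h3
    exact hw ((h2 x y).symm.trans (h.mon_zero hl' hz η' hη' h0 hw h3 _ _))
  refine h.id_false hl hz η hη (u := x) fun w => ?_
  obtain ⟨t, rfl⟩ := Finite.injective_iff_surjective.1 hinj w
  exact h1 x t

omit [Field F] [Finite F] [CharP F 2] in
theorem FW.card_eq (h : FW F N) {K : Type*} [Field K] [Finite K] [CharP K 2] {l : K}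
    (hl : orderOf l = N) (hK : ∀ x : K, x ^ Nat.card F = x) : Nat.card K = Nat.card F := by
  obtain ⟨n, hF, h⟩ := h
  refine le_antisymm ?_ (hF ▸ h.card_ge hl)
  obtain ⟨g, hg⟩ := IsCyclic.exists_ofOrder_eq_natCard (α := Kˣ)
  have h1 : 2 ^ 1 ≤ 2 ^ n := Nat.pow_le_pow_right (by norm_num) (le_trans one_le_two h.two_le)
  have h3 : Nat.card Kˣ ∣ Nat.card F - 1 := by
    rw [← hg]
    refine orderOf_dvd_of_pow_eq_one (Units.ext (mul_right_cancel₀ g.ne_zero ?_))
    rw [Units.val_pow_eq_pow_val, ← pow_succ, Nat.sub_add_cancel (by omega), hK, Units.val_one,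
      one_mul]
  have h4 := Nat.le_of_dvd (by omega) h3
  rw [Nat.card_eq_card_units_add_one K]
  omega

end CfsgLib.Suz2S
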